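import Groth.Agent.LiaisonLib.ACI
import Groth.Agent.DepthLib.GeomNormal
import Groth.Agent.NormalLib.Regular
import Mathlib

/-! # Complete intersections in regular rings: Cohen–Macaulayness and Serre's criterion -/

set_option autoImplicit false
set_option linter.style.haveILetI false

universe u

open IsLocalRing CommAlgDim

namespace CINormalLib

variable {A : Type u} [CommRing A] [IsRegularRing A]

theorem exists_localization_quot {c : ℕ} (g : Fin c → A) (J : Ideal A) (hg : Ideal.span (Set.range g) = J)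
    (hc : (c : ℕ∞) ≤ J.height) (P : Ideal (A ⧸ J)) [P.IsPrime] :
    LocCoh.IsCohenMacaulayLocalRing (Localization.AtPrime P) ∧
      ringKrullDim (Localization.AtPrime P) + (c : WithBot ℕ∞) =
        ((P.comap (Ideal.Quotient.mk J)).height : WithBot ℕ∞) := by
  haveI : IsNoetherianRing A := inferInstance
  let M := P.comap (Ideal.Quotient.mk J)
  haveI : M.IsPrime := Ideal.IsPrime.comap _
  have hM : J ≤ M := fun x hx => by
    rw [Ideal.mem_comap, Ideal.Quotient.eq_zero_iff_mem.2 hx]; exact P.zero_mem
  let B := Localization.AtPrime M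
  let rs := List.ofFn fun i => algebraMap A B (g i)
  have hrs : Ideal.ofList rs = J.map (algebraMap A B) := by
    rw [← hg, Ideal.map_span, ← Set.range_comp]
    exact congrArg Ideal.span (Set.ext fun x => by simp [rs, Function.comp, List.mem_ofFn])
  have hlen : rs.length = c := List.length_ofFn
  have hm : ∀ r ∈ rs, r ∈ maximalIdeal B := fun r hr => by
    rw [← Localization.AtPrime.map_eq_maximalIdeal]
    exact Ideal.map_mono hM (hrs ▸ Ideal.subset_span hr)
  have hreg := isRegular_of_dim (isCM_of_isRegularLocalRing B) hm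
    (by rw [hrs, hlen]; exact LiaisonLib.ringKrullDim_quotient_le hc hM)
  have hd := ringKrullDim_add_length_eq_ringKrullDim_of_isRegular rs hreg
  rw [hrs, hlen] at hd
  have hG : LocCoh.IsGorensteinLocalRing (B ⧸ J.map (algebraMap A B)) :=
    GorLib.gorenstein_of_ringEquiv (Ideal.quotEquivOfEq hrs.symm)
      ((GorLib.gorenstein_quotient_ofList_iff _ B rs rfl hreg.toIsWeaklyRegular hm).1 (Groth.Agent.S0342.result B))
  obtain ⟨hp, ⟨e⟩⟩ := LiaisonLib.exists_quot_equiv hM
  have hMP : M.map (Ideal.Quotient.mk J) = P := Ideal.map_comap_of_surjective _ Ideal.Quotient.mk_surjective _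
  have h1 : LocCoh.IsCohenMacaulayLocalRing (Localization.AtPrime (M.map (Ideal.Quotient.mk J))) ∧
      ringKrullDim (Localization.AtPrime (M.map (Ideal.Quotient.mk J))) + (c : WithBot ℕ∞) = (M.height : WithBot ℕ∞) := by
    refine ⟨CMFlatLib.cm_of_gorenstein (GorLib.gorenstein_of_ringEquiv e.symm hG), ?_⟩
    rw [← ringKrullDim_eq_of_ringEquiv e, hd, IsLocalization.AtPrime.ringKrullDim_eq_height M B]
  revert h1
  generalize hQ : M.map (Ideal.Quotient.mk J) = Q at hp
  obtain rfl := hQ.symm.trans hMP
  exact id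

theorem hasSk {c : ℕ} (g : Fin c → A) (J : Ideal A) (hg : Ideal.span (Set.range g) = J)
    (hc : (c : ℕ∞) ≤ J.height) (k : ℕ) : LocCoh.HasSk k (A ⧸ J) (A ⧸ J) := fun p _ => by
  have hL := (exists_localization_quot g J hg hc p).1
  refine (min_le_right _ _).trans ?_
  rw [SMTLib.supportDim_localized_self, ← IsLocalization.AtPrime.ringKrullDim_eq_height p (Localization.AtPrime p),
    ← Module.supportDim_self_eq_ringKrullDim, hL.supportDim_eq_depth]

omit [IsRegularRing A] in
theorem regular_of_normal {R : Type u} [CommRing R] [IsNoetherianRing R] (p : Ideal R) [p.IsPrime]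
    (hdom : IsDomain (Localization.AtPrime p)) (hic : IsIntegrallyClosed (Localization.AtPrime p))
    (hht : p.height ≤ 1) : IsRegularLocalRing (Localization.AtPrime p) := by
  by_cases hF : IsField (Localization.AtPrime p)
  · exact NormalLib.isRegularLocalRing_of_isField _ hF
  have hdim : Ring.KrullDimLE 1 (Localization.AtPrime p) := by
    rw [Ring.krullDimLE_iff, IsLocalization.AtPrime.ringKrullDim_eq_height p]
    exact_mod_cast hht
  have huniq : ∃! Q : Ideal (Localization.AtPrime p), Q ≠ ⊥ ∧ Q.IsPrime :=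
    ⟨maximalIdeal _, ⟨fun h => hF (isField_iff_maximalIdeal_eq.2 h), inferInstance⟩, fun Q hQ =>
      eq_maximalIdeal (Ring.krullDimLE_one_iff_of_isPrime_bot.1 hdim Q hQ.1 hQ.2)⟩
  have hiff : IsIntegrallyClosed (Localization.AtPrime p) ∧ (∃! Q : Ideal (Localization.AtPrime p), Q ≠ ⊥ ∧ Q.IsPrime) ↔
      IsDiscreteValuationRing (Localization.AtPrime p) := (IsDiscreteValuationRing.TFAE _ hF).out 3 0
  have := hiff.1 ⟨inferInstance, huniq⟩
  rw [IsRegularLocalRing.iff_finrank_cotangentSpace, IsLocalRing.finrank_CotangentSpace_eq_one,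
    IsDiscreteValuationRing.ringKrullDim_eq_one]
  rfl

/-- Normality of a complete intersection away from a prime of height at least two. -/
theorem locNormal {c : ℕ} (g : Fin c → A) (J : Ideal A) (hg : Ideal.span (Set.range g) = J)
    (hc : (c : ℕ∞) ≤ J.height) (m : Ideal (A ⧸ J)) [m.IsPrime] (hm : ¬ m.height ≤ 1)
    (h : ∀ (p : Ideal (A ⧸ J)) [p.IsPrime], p ≠ m →
      IsDomain (Localization.AtPrime p) ∧ IsIntegrallyClosed (Localization.AtPrime p)) :
    NormalLib.LocNormal (A ⧸ J) := by
  haveI : IsNoetherianRing A := inferInstance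
  refine NormalLib.serre_normal_iff.2 ⟨fun p hp hht => ?_, hasSk g J hg hc 2⟩
  obtain ⟨h1, h2⟩ := h p fun e => hm (e ▸ hht)
  exact regular_of_normal p h1 h2 hht

end CINormalLib
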